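import Cfsg.Agent.Techniques.Alperin.Tame
import Cfsg.Agent.Lib.PLocal.Cores
import Cfsg.Agent.Lib.PLocal.PSolvable
import Cfsg.Agent.Lib.Transfer.NormalPComplement

/-!
Reduction of fusion to centric radical subgroups, and the Alperin–Goldschmidt theorem.
-/

set_option autoImplicit false

namespace Cfsg.Agent.Techniques.Alperin.Radical

open Subgroup Cfsg.Agent.CharP
open Cfsg.Agent.Transfer
open Cfsg.Agent.Techniques.Alperin.Basic Cfsg.Agent.Techniques.Alperin.Chain
open Cfsg.Agent.Techniques.Alperin.Tame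

section normal

variable {X : Type*} [Group X] [Finite X] {p : ℕ} [hp : Fact p.Prime]

/-- A Sylow subgroup meets a normal subgroup in a Sylow subgroup. -/
theorem isSylIn_inf_normal (S : Sylow p X) (N : Subgroup X) [N.Normal] :
    IsSylIn p ((S : Subgroup X) ⊓ N) N := by
  refine isSylIn_of_not_dvd (S.2.to_le inf_le_left) inf_le_right ?_
  rw [inf_relIndex_right]
  intro h
  have h1 := relIndex_mul_index (H := N ⊓ (S : Subgroup X)) (K := N) inf_le_left
  have h2 := relIndex_mul_index (H := N ⊓ (S : Subgroup X)) (K := (S : Subgroup X)) inf_le_right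
  rw [inf_relIndex_left] at h1
  rw [inf_relIndex_right, ← h1] at h2
  obtain ⟨a, ha⟩ := relIndex_dvd_index_of_normal N (S : Subgroup X)
  rw [ha, mul_left_comm] at h2
  have h0 : N.relIndex (S : Subgroup X) ≠ 0 := fun h => by
    have := h ▸ relIndex_dvd_card N (S : Subgroup X)
    exact Nat.card_pos.ne' (zero_dvd_iff.mp this)
  exact S.not_dvd_index ((Nat.eq_of_mul_eq_mul_left (Nat.pos_of_ne_zero h0) h2) ▸ h.mul_right a)

theorem pPrimeCore_le_centralizer {E : Subgroup X} [E.Normal] (hE : IsPGroup p E) :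
    Cfsg.pPrimeCore p X ≤ centralizer (E : Set X) := by
  rw [← commutator_eq_bot_iff_le_centralizer, eq_bot_iff]
  refine (commutator_le_inf _ _).trans ?_
  obtain ⟨k, hk⟩ := IsPGroup.iff_card.mp hE
  exact (disjoint_of_coprime_natCard
    (by rw [hk]; exact PLocal.Cores.coprime_card_pPrimeCore.pow_right k)).le_bot

theorem centralizer_le_sup {E : Subgroup X} [E.Normal] (S : Sylow p X)
    (h : (S : Subgroup X) ⊓ centralizer (E : Set X) ≤ E) :
    centralizer (E : Set X) ≤ E ⊔ Cfsg.pPrimeCore p X := by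
  set C := centralizer (E : Set X) with hC
  have hCn : C.Normal := inferInstance
  have hsyl := isSylIn_inf_normal S C
  set Z := ((S : Subgroup X) ⊓ C).subgroupOf C with hZ
  have hZc : Z ≤ Subgroup.center ↥C := fun z hz => Subgroup.mem_center_iff.mpr fun c =>
    Subtype.ext ((mem_centralizer_iff.mp c.2 z (h (mem_subgroupOf.mp hz))).symm)
  obtain ⟨k, hk⟩ := NormalPComplement.hasNormalPComplement_iff_pPrimeCore.mp
    (PLocal.PSolvable.hasNormalPComplement_of_central hZc (hsyl.isPGroup.comap_subtype)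
      hsyl.not_dvd)
  have htop : Z ⊔ Cfsg.pPrimeCore p ↥C = ⊤ := by
    rw [← index_eq_one]
    obtain ⟨i, -, hi⟩ := (Nat.dvd_prime_pow hp.out).mp
      (hk ▸ index_dvd_of_le (le_sup_right : Cfsg.pPrimeCore p ↥C ≤ Z ⊔ Cfsg.pPrimeCore p ↥C))
    rcases Nat.eq_zero_or_pos i with rfl | hi0
    · rw [hi, pow_zero]
    · exact absurd ((dvd_pow_self p hi0.ne').trans (hi ▸ index_dvd_of_le
        (le_sup_left : Z ≤ Z ⊔ Cfsg.pPrimeCore p ↥C))) hsyl.not_dvd
  have hK : (Cfsg.pPrimeCore p ↥C).map C.subtype ≤ Cfsg.pPrimeCore p X := by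
    have hchar : (Cfsg.pPrimeCore p ↥C).Characteristic := PLocal.Cores.pPrimeCore_characteristic
    have : ((Cfsg.pPrimeCore p ↥C).map C.subtype).Normal := inferInstance
    refine PLocal.Cores.le_pPrimeCore ?_
    rw [card_map_of_injective C.subtype_injective]
    exact PLocal.Cores.coprime_card_pPrimeCore
  calc C = (⊤ : Subgroup ↥C).map C.subtype := by rw [← MonoidHom.range_eq_map, range_subtype]
    _ = ((S : Subgroup X) ⊓ C) ⊔ (Cfsg.pPrimeCore p ↥C).map C.subtype := by
        rw [← htop, Subgroup.map_sup, map_subgroupOf_eq_of_le inf_le_right]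
    _ ≤ _ := sup_le_sup h hK

theorem pPrimePCore_eq_sup (S : Sylow p X) :
    Cfsg.pPrimePCore p X = ((S : Subgroup X) ⊓ Cfsg.pPrimePCore p X) ⊔ Cfsg.pPrimeCore p X := by
  refine le_antisymm ?_ (sup_le inf_le_right PLocal.Cores.pPrimeCore_le_pPrimePCore)
  set R := ((S : Subgroup X) ⊓ Cfsg.pPrimePCore p X) ⊔ Cfsg.pPrimeCore p X with hR
  rw [← relIndex_eq_one]
  have hle : R ≤ Cfsg.pPrimePCore p X := sup_le inf_le_right PLocal.Cores.pPrimeCore_le_pPrimePCore
  obtain ⟨k, hk⟩ := PLocal.Cores.relIndex_pPrimePCore (p := p) (G := X)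
  have h1 : R.relIndex (Cfsg.pPrimePCore p X) ∣ p ^ k := hk ▸ Dvd.intro_left _
    (relIndex_mul_relIndex (Cfsg.pPrimeCore p X) R (Cfsg.pPrimePCore p X) le_sup_right hle)
  obtain ⟨i, -, hi⟩ := (Nat.dvd_prime_pow hp.out).mp h1
  rcases Nat.eq_zero_or_pos i with rfl | hi0
  · rw [hi, pow_zero]
  · exact absurd (((dvd_pow_self p hi0.ne').trans (dvd_of_eq hi.symm)).trans (Dvd.intro_left _
      (relIndex_mul_relIndex ((S : Subgroup X) ⊓ Cfsg.pPrimePCore p X) R _ le_sup_left hle)))
      (isSylIn_inf_normal S (Cfsg.pPrimePCore p X)).not_dvd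

end normal

variable {G : Type*} [Group G] [Finite G] {p : ℕ} [hp : Fact p.Prime] {P : Sylow p G}

/-- `O_{p'}(H)` in the ambient group. -/
abbrev kOf (p : ℕ) (H : Subgroup G) : Subgroup G := (Cfsg.pPrimeCore p ↥H).map H.subtype

/-- `O_{p',p}(H)` in the ambient group. -/
abbrev mOf (p : ℕ) (H : Subgroup G) : Subgroup G := (Cfsg.pPrimePCore p ↥H).map H.subtype

/-- Centric radical. -/
structure IsCR (p : ℕ) (P E : Subgroup G) : Prop where
  fn : FullyNormalized p P E
  centric : P ⊓ centralizer (E : Set G) ≤ E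
  cent_le : centralizer (E : Set G) ≤ E ⊔ kOf p (normalizer (E : Set G))
  comm : kOf p (normalizer (E : Set G)) ≤ centralizer (E : Set G)
  radical : mOf p (normalizer (E : Set G)) = E ⊔ kOf p (normalizer (E : Set G))

theorem centralizer_map_subtype (N E : Subgroup G) (hEN : E ≤ N) (hCN : centralizer (E : Set G) ≤ N) :
    (centralizer (E.subgroupOf N : Set ↥N)).map N.subtype = centralizer (E : Set G) := by
  ext z
  constructor
  · rintro ⟨⟨w, hw⟩, hwc, rfl⟩
    exact mem_centralizer_iff.mpr fun e he =>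
      congrArg Subtype.val (mem_centralizer_iff.mp hwc ⟨e, hEN he⟩ (mem_subgroupOf.mpr he))
  · intro hz
    refine ⟨⟨z, hCN hz⟩, mem_centralizer_iff.mpr fun e he => Subtype.ext ?_, rfl⟩
    exact mem_centralizer_iff.mp hz e (mem_subgroupOf.mp he)

/-- The centric radical criterion. -/
theorem isCR_of {E : Subgroup G} (hE : FullyNormalized p (P : Subgroup G) E)
    (hc : (P : Subgroup G) ⊓ normalizer (E : Set G) ⊓ centralizer (E : Set G) ≤ E)
    (hm : (P : Subgroup G) ⊓ normalizer (E : Set G) ⊓ mOf p (normalizer (E : Set G)) ≤ E) :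
    IsCR p (P : Subgroup G) E := by
  set N := normalizer (E : Set G) with hN
  have hEN : E ≤ N := le_normalizer
  have hCN : centralizer (E : Set G) ≤ N := centralizer_le_normalizer _
  have hEn : (E.subgroupOf N).Normal := normal_in_normalizer
  have hEp : IsPGroup p (E.subgroupOf N) := (P.2.to_le hE.le).comap_subtype
  obtain ⟨S, hS⟩ := hE.syl
  have hinj := N.subtype_injective
  have hEmap : (E.subgroupOf N).map N.subtype = E := map_subgroupOf_eq_of_le hEN
  have hcentmap := centralizer_map_subtype N E hEN hCN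
  refine ⟨hE, fun z hz => hc ⟨⟨hz.1, hCN hz.2⟩, hz.2⟩, ?_,
    hcentmap ▸ map_mono (pPrimeCore_le_centralizer hEp), ?_⟩
  · have h1 := map_mono (f := N.subtype) (centralizer_le_sup (E := E.subgroupOf N) S fun z hz => by
      have hz' : (z : G) ∈ ((S : Subgroup ↥N) ⊓ centralizer (E.subgroupOf N : Set ↥N)).map N.subtype :=
        ⟨z, hz, rfl⟩
      rw [Subgroup.map_inf _ _ _ hinj, hS, hcentmap] at hz'
      exact mem_subgroupOf.mpr (hc hz'))
    rwa [hcentmap, Subgroup.map_sup, hEmap] at h1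
  · have h1 := congrArg (Subgroup.map N.subtype) (pPrimePCore_eq_sup S)
    rw [Subgroup.map_sup, Subgroup.map_inf _ _ _ hinj, hS] at h1
    refine h1.trans (congrArg (· ⊔ kOf p N) (le_antisymm hm ?_))
    refine le_inf (le_inf hE.le hEN) ?_
    conv_lhs => rw [← hEmap]
    exact map_mono ((PLocal.Cores.le_pCore hEp).trans PLocal.Cores.pCore_le_pPrimePCore)

/-- Either the normalizers of larger subgroups and the centralizer generate `N_G(E)`, or `E` is
centric radical. -/
theorem reduce {E M : Subgroup G} (hE : FullyNormalized p (P : Subgroup G) E)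
    (hC : centralizer (E : Set G) ≤ M)
    (hA : ∀ A : Subgroup G, E < A → A ≤ (P : Subgroup G) ⊓ normalizer (E : Set G) →
      normalizer (E : Set G) ⊓ normalizer (A : Set G) ≤ M) :
    normalizer (E : Set G) ≤ M ∨ IsCR p (P : Subgroup G) E := by
  set N := normalizer (E : Set G) with hN
  have hEN : E ≤ N := le_normalizer
  have hCN : centralizer (E : Set G) ≤ N := centralizer_le_normalizer _
  have hEn : (E.subgroupOf N).Normal := normal_in_normalizer
  have hEp : IsPGroup p (E.subgroupOf N) := (P.2.to_le hE.le).comap_subtype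
  obtain ⟨S, hS⟩ := hE.syl
  have hcentmap := centralizer_map_subtype N E hEN hCN
  have hEmap : (E.subgroupOf N).map N.subtype = E := map_subgroupOf_eq_of_le hEN
  have hinj := N.subtype_injective
  have hk : kOf p N ≤ centralizer (E : Set G) :=
    hcentmap ▸ map_mono (pPrimeCore_le_centralizer hEp)
  -- the centralizer
  set SC := (P : Subgroup G) ⊓ N ⊓ centralizer (E : Set G) with hSC
  by_cases hc : SC ≤ E
  swap
  · left
    have hsylC : IsSylIn p SC (centralizer (E : Set G)) := by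
      have := (isSylIn_inf_normal S (centralizer (E.subgroupOf N : Set ↥N))).map hinj
      rwa [Subgroup.map_inf _ _ _ hinj, hS, hcentmap] at this
    have hlt : E < E ⊔ SC := lt_of_le_of_ne le_sup_left fun h => hc (h ▸ le_sup_right)
    intro n hn
    have h2 : IsSylIn p (cv n SC) (centralizer (E : Set G)) := by
      have := hsylC.conj n⁻¹
      have hcn : (centralizer (E : Set G)).map (MulAut.conj n⁻¹).toMonoidHom = centralizer (E : Set G) := by
        rw [← hcentmap, map_map]
        have : (MulAut.conj n⁻¹).toMonoidHom.comp N.subtype =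
            N.subtype.comp (MulAut.conj (⟨n, hn⟩⁻¹ : ↥N)).toMonoidHom := rfl
        rw [this, ← map_map, conj_map_of_mem]
        rw [normalizer_eq_top]; exact mem_top _
      rwa [hcn] at this
    obtain ⟨k, hkc, he⟩ := h2.exists_conj hsylC
    have h3 : n * k⁻¹ ∈ normalizer (SC : Set G) := by
      rw [← cv_eq_self_iff, ← cv_cv, cv.eq_1 k⁻¹, inv_inv]; exact he
    have hkN : k⁻¹ ∈ N := N.inv_mem (hCN hkc)
    have h4 : n * k⁻¹ ∈ normalizer ((E ⊔ SC : Subgroup G) : Set G) := by
      rw [← cv_eq_self_iff, cv, Subgroup.map_sup]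
      rw [← cv, ← cv, cv_of_mem (N.mul_mem hn hkN), cv_of_mem h3]
    have := M.mul_mem (hA _ hlt (sup_le (le_inf hE.le hEN) inf_le_left) ⟨N.mul_mem hn hkN, h4⟩) (hC hkc)
    rwa [inv_mul_cancel_right] at this
  -- the radical
  set SM := (P : Subgroup G) ⊓ N ⊓ mOf p N with hSM
  have hmeq : mOf p N = SM ⊔ kOf p N := by
    have := congrArg (Subgroup.map N.subtype) (pPrimePCore_eq_sup S)
    rwa [Subgroup.map_sup, Subgroup.map_inf _ _ _ hinj, hS] at this
  have hEM : E ≤ SM := by
    refine le_inf (le_inf hE.le hEN) ?_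
    rw [← hEmap]
    exact map_mono ((PLocal.Cores.le_pCore hEp).trans PLocal.Cores.pCore_le_pPrimePCore)
  rcases eq_or_lt_of_le hEM with heq | hlt
  · exact Or.inr (isCR_of hE hc heq.ge)
  · left
    refine fun n hn => ?_
    have hsylM : IsSylIn p SM (mOf p N) := by
      have := (isSylIn_inf_normal S (Cfsg.pPrimePCore p ↥N)).map hinj
      rwa [Subgroup.map_inf _ _ _ hinj, hS] at this
    have hMn : N ≤ normalizer (mOf p N : Set G) :=
      (le_normalizer_map N.subtype).trans' (by rw [normalizer_eq_top, ← MonoidHom.range_eq_map, range_subtype])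
    have h2 : IsSylIn p (cv n SM) (mOf p N) := by
      have := hsylM.conj n⁻¹
      rwa [conj_map_of_mem (inv_mem (hMn hn))] at this
    obtain ⟨k, hkm, he⟩ := h2.exists_conj hsylM
    have hkN : k⁻¹ ∈ N := N.inv_mem (map_subtype_le _ hkm)
    have h3 : n * k⁻¹ ∈ normalizer (SM : Set G) := by
      rw [← cv_eq_self_iff, ← cv_cv, cv.eq_1 k⁻¹, inv_inv]; exact he
    have hSMM : SM ≤ M := fun z hz => hA SM hlt inf_le_left ⟨hz.1.2, le_normalizer hz⟩
    have hmM : mOf p N ≤ M := hmeq ▸ sup_le hSMM (hk.trans hC)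
    have := M.mul_mem (hA SM hlt inf_le_left ⟨N.mul_mem hn hkN, h3⟩) (hmM hkm)
    rwa [inv_mul_cancel_right] at this

/-- The Alperin–Goldschmidt theorem. -/
theorem goldschmidt_chain (P : Sylow p G) (A : Set G) (g : G) (hA : A ⊆ (P : Set G))
    (hAg : cs g A ⊆ (P : Set G)) : ∃ c ∈ centralizer A, ∃ g', g = c * g' ∧
      Chain (P : Subgroup G) (fun D _ => IsCR p (P : Subgroup G) D) A g' := by
  suffices h : ∃ c ∈ centralizer (closure A : Set G), ∃ g', g = c * g' ∧
      Chain (P : Subgroup G) (fun D _ => IsCR p (P : Subgroup G) D) (closure A : Set G) g' by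
    obtain ⟨c, hc, g', hg, hch⟩ := h
    exact ⟨c, centralizer_le Subgroup.subset_closure hc, g', hg, hch.mono Subgroup.subset_closure⟩
  refine Basic.induction (P := P) (fun (D : Subgroup G) g => ∃ c ∈ centralizer (D : Set G), ∃ g',
      g = c * g' ∧ Chain (P : Subgroup G) (fun D _ => IsCR p (P : Subgroup G) D) (D : Set G) g')
    ?_ ?_ ?_ ?_ (closure A) g ((closure_le _).2 hA) (subgroup_subset_of_closure g hAg)
  · rintro D D' g hD ⟨c, hc, g', hg, hch⟩
    exact ⟨c, centralizer_le hD hc, g', hg, hch.mono hD⟩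
  · rintro D a b ⟨c, hc, a', rfl, ha⟩ ⟨d, hd, b', rfl, hb⟩
    rw [coe_cv, ← cs_cs, cs_of_mem_centralizer hc] at hd hb
    refine ⟨c * (a' * d * a'⁻¹), mul_mem hc ?_, a' * b', by group, ha.trans hb⟩
    rw [mem_centralizer_iff]
    intro z hz
    have := mem_centralizer_iff.mp hd _ ⟨z, hz, rfl⟩
    calc z * (a' * d * a'⁻¹) = a' * ((a'⁻¹ * z * a') * d) * a'⁻¹ := by group
      _ = a' * (d * (a'⁻¹ * z * a')) * a'⁻¹ := by rw [this]
      _ = _ := by group
  · rintro D a ⟨c, hc, a', rfl, ha⟩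
    rw [coe_cv, ← cs_cs, cs_of_mem_centralizer hc]
    refine ⟨a'⁻¹ * c⁻¹ * a', ?_, a'⁻¹, by group, ha.symm fun _ _ _ h => h⟩
    rw [mem_centralizer_iff]
    rintro _ ⟨z, hz, rfl⟩
    have := mem_centralizer_iff.mp (inv_mem hc) z hz
    calc a'⁻¹ * z * a' * (a'⁻¹ * c⁻¹ * a') = a'⁻¹ * (z * c⁻¹) * a' := by group
      _ = a'⁻¹ * (c⁻¹ * z) * a' := by rw [this]
      _ = _ := by group
  intro E hE ih
  set N := normalizer (E : Set G) with hN
  let Φ := fun n => ∃ c ∈ centralizer (E : Set G), ∃ g',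
      n = c * g' ∧ Chain (P : Subgroup G) (fun D _ => IsCR p (P : Subgroup G) D) (E : Set G) g'
  have hCN : centralizer (E : Set G) ≤ N := centralizer_le_normalizer _
  let M : Subgroup G :=
    { carrier := {n | n ∈ N ∧ Φ n}
      one_mem' := ⟨one_mem _, 1, one_mem _, 1, (one_mul 1).symm, .one hE.le⟩
      mul_mem' := by
        rintro a b ⟨haN, c, hc, a', rfl, ha⟩ ⟨hbN, d, hd, b', rfl, hb⟩
        have ha'N : a' ∈ N := (N.mul_mem_cancel_left (hCN hc)).mp haN
        refine ⟨mul_mem haN hbN, c * (a' * d * a'⁻¹), mul_mem hc ?_, a' * b', by group,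
          ha.trans (by rwa [← coe_cv, cv_of_mem ha'N])⟩
        rw [mem_centralizer_iff]
        intro z hz
        have hz' : a'⁻¹ * z * a' ∈ E := cv_of_mem ha'N ▸ conj_mem_cv hz
        have := mem_centralizer_iff.mp hd _ hz'
        calc z * (a' * d * a'⁻¹) = a' * ((a'⁻¹ * z * a') * d) * a'⁻¹ := by group
          _ = a' * (d * (a'⁻¹ * z * a')) * a'⁻¹ := by rw [this]
          _ = _ := by group
      inv_mem' := by
        rintro a ⟨haN, c, hc, a', rfl, ha⟩
        have ha'N : a' ∈ N := (N.mul_mem_cancel_left (hCN hc)).mp haN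
        have hs := ha.symm fun _ _ _ h => h
        rw [← coe_cv, cv_of_mem ha'N] at hs
        refine ⟨inv_mem haN, a'⁻¹ * c⁻¹ * a', ?_, a'⁻¹, by group, hs⟩
        rw [mem_centralizer_iff]
        intro z hz
        have hz' : a' * z * a'⁻¹ ∈ E := (mem_normalizer_iff.mp ha'N z).mp hz
        have := mem_centralizer_iff.mp (inv_mem hc) _ hz'
        calc z * (a'⁻¹ * c⁻¹ * a') = a'⁻¹ * ((a' * z * a'⁻¹) * c⁻¹) * a' := by group
          _ = a'⁻¹ * (c⁻¹ * (a' * z * a'⁻¹)) * a' := by rw [this]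
          _ = _ := by group }
  suffices h : N ≤ M from fun n hn => (h hn).2
  rcases reduce (M := M) hE
    (fun c hc => ⟨hCN hc, c, hc, 1, (mul_one c).symm, .one hE.le⟩)
    (fun A hEA hAS n hn => ⟨hn.1, by
      obtain ⟨c, hc, g', hg, hch⟩ := ih A n hEA (hAS.trans inf_le_left)
        ((cv_of_mem hn.2).le.trans (hAS.trans inf_le_left))
      exact ⟨c, centralizer_le hEA.le hc, g', hg, hch.mono hEA.le⟩⟩) with h | h
  · exact h
  · exact fun n hn => ⟨hn, 1, one_mem _, n, (one_mul n).symm,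
      .single hE.le hn h Set.Subset.rfl⟩

/-- `P` itself is centric radical. -/
theorem isCR_self (P : Sylow p G) : IsCR p (P : Subgroup G) (P : Subgroup G) :=
  isCR_of ⟨le_rfl, by
    rw [inf_eq_left.2 le_normalizer]
    exact isSylIn_of_not_dvd P.2 le_normalizer fun hd =>
      P.not_dvd_index (hd.trans (relIndex_dvd_index_of_le le_normalizer))⟩
    (inf_le_left.trans inf_le_left) (inf_le_left.trans inf_le_left)

end Cfsg.Agent.Techniques.Alperin.Radical
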