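import Cfsg.Agent.Techniques.Alperin.Chain

/-!
Alperin's fusion theorem with tame intersections and `p`-elements.
-/

set_option autoImplicit false

namespace Cfsg.Agent.Techniques.Alperin.Tame

open Subgroup Cfsg.Agent.CharP
open Cfsg.Agent.Transfer
open Cfsg.Agent.Techniques.Alperin.Basic Cfsg.Agent.Techniques.Alperin.Chain

variable {G : Type*} [Group G] {p : ℕ}

/-- The intersection of the Sylow subgroups `P`, `Q` is tame. -/
def IsTame (P Q : Sylow p G) : Prop :=
  ¬ p ∣ ((P : Subgroup G) ⊓ normalizer (((P : Subgroup G) ⊓ (Q : Subgroup G) : Subgroup G) : Set G)).relIndex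
      (normalizer (((P : Subgroup G) ⊓ (Q : Subgroup G) : Subgroup G) : Set G)) ∧
    ¬ p ∣ ((Q : Subgroup G) ⊓ normalizer (((P : Subgroup G) ⊓ (Q : Subgroup G) : Subgroup G) : Set G)).relIndex
      (normalizer (((P : Subgroup G) ⊓ (Q : Subgroup G) : Subgroup G) : Set G))

/-- The steps allowed in Alperin's theorem. -/
def TameOk (P : Sylow p G) (D : Subgroup G) (x : G) : Prop :=
  ∃ Q : Sylow p G, D = (P : Subgroup G) ⊓ (Q : Subgroup G) ∧ IsTame P Q ∧
    ((Q : Subgroup G) = (P : Subgroup G) ∨ ∃ k : ℕ, orderOf x = p ^ k)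

variable [Finite G] [hp : Fact p.Prime] {P : Sylow p G}

/-- Frattini's argument: a subgroup containing `N_N(S)` and a subgroup `K ∋ S` normalized by `N` contains `N`. -/
theorem le_of_frattini {N K S M : Subgroup G} (hS : IsSylIn p S N) (hSK : S ≤ K) (hKN : K ≤ N)
    (hK : N ≤ normalizer (K : Set G)) (hKM : K ≤ M) (hNM : N ⊓ normalizer (S : Set G) ≤ M) : N ≤ M := by
  intro n hn
  have h1 : IsSylIn p S K := hS.mono hSK hKN
  have h2 : IsSylIn p (cv n S) K := by
    have := h1.conj n⁻¹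
    rwa [conj_map_of_mem (inv_mem (hK hn))] at this
  obtain ⟨k, hk, he⟩ := h2.exists_conj h1
  have hkN : k⁻¹ ∈ N := N.inv_mem (hKN hk)
  have h3 : n * k⁻¹ ∈ normalizer (S : Set G) := by
    rw [← cv_eq_self_iff, ← cv_cv, cv.eq_1 k⁻¹, inv_inv]; exact he
  have := M.mul_mem (hNM ⟨N.mul_mem hn hkN, h3⟩) (hKM hk)
  rwa [inv_mul_cancel_right] at this

/-- `E` with a second Sylow subgroup of `N_G(E)` meeting `P` in `E` is a tame intersection. -/
theorem exists_tame {E S₁ : Subgroup G} (hE : FullyNormalized p (P : Subgroup G) E)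
    (h1 : IsSylIn p S₁ (normalizer (E : Set G)))
    (hmeet : (P : Subgroup G) ⊓ normalizer (E : Set G) ⊓ S₁ = E) :
    ∃ T : Sylow p G, (P : Subgroup G) ⊓ (T : Subgroup G) = E ∧ IsTame P T ∧ S₁ ≤ T := by
  obtain ⟨T, hT⟩ := h1.isPGroup.exists_le_sylow
  have hT1 : (T : Subgroup G) ⊓ normalizer (E : Set G) = S₁ :=
    h1.eq_of_le (T.2.to_le inf_le_left) inf_le_right (le_inf hT h1.le)
  have hPT : (P : Subgroup G) ⊓ (T : Subgroup G) = E := by
    refine le_antisymm ?_ (le_inf hE.le ?_)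
    · by_contra hne
      have hlt : E < (P : Subgroup G) ⊓ (T : Subgroup G) :=
        lt_of_le_not_ge (le_inf hE.le (hmeet.ge.trans inf_le_right |>.trans hT)) hne
      refine (Frobenius.lt_inf_normalizer (P.2.to_le inf_le_left) hlt).not_ge ?_
      conv_rhs => rw [← hmeet]
      rintro x ⟨⟨hxP, hxT⟩, hxN⟩
      exact ⟨⟨hxP, hxN⟩, hT1.le ⟨hxT, hxN⟩⟩
    · exact hmeet.ge.trans inf_le_right |>.trans hT
  refine ⟨T, hPT, ⟨?_, ?_⟩, hT⟩
  · rw [hPT]; exact hE.syl.not_dvd
  · rw [hPT, hT1]; exact h1.not_dvd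

theorem tameOk_inv (D : Subgroup G) (x : G) (_ : x ∈ normalizer (D : Set G)) (h : TameOk P D x) :
    TameOk P D x⁻¹ := by
  obtain ⟨Q, h1, h2, h3⟩ := h
  exact ⟨Q, h1, h2, h3.imp_right fun ⟨k, hk⟩ => ⟨k, by rw [orderOf_inv, hk]⟩⟩

omit hp in
theorem subgroup_subset_of_closure {A : Set G} {D : Subgroup G} (g : G) (h : cs g A ⊆ (D : Set G)) :
    cv g (closure A) ≤ D := by
  rw [cv, MonoidHom.map_closure, closure_le]
  refine Set.Subset.trans ?_ h
  rintro _ ⟨a, ha, rfl⟩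
  exact ⟨a, ha, by simp⟩

/-- Alperin's fusion theorem. -/
theorem tame_chain (P : Sylow p G) (A : Set G) (g : G) (hA : A ⊆ (P : Set G))
    (hAg : cs g A ⊆ (P : Set G)) : Chain (P : Subgroup G) (TameOk P) A g := by
  refine Chain.mono ?_ subset_closure
  refine Basic.induction (P := P) (fun (D : Subgroup G) g => Chain (P : Subgroup G) (TameOk P) (D : Set G) g)
    ?_ ?_ ?_ ?_ (closure A) g ((closure_le _).2 hA) (subgroup_subset_of_closure g hAg)
  · exact fun D D' g hD h => h.mono hD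
  · intro D a b ha hb
    exact ha.trans (by rwa [← coe_cv])
  · intro D a ha
    rw [coe_cv]; exact ha.symm tameOk_inv
  intro E hE ih
  set N := normalizer (E : Set G) with hN
  set S₀ := (P : Subgroup G) ⊓ N with hS₀
  by_cases hEP : E = (P : Subgroup G)
  · intro n hn
    refine Chain.single hE.le hn ⟨P, by rw [inf_idem]; exact hEP, ?_, Or.inl rfl⟩ Set.Subset.rfl
    have := hE.syl.not_dvd
    rw [hEP] at this
    unfold IsTame
    rw [inf_idem]
    exact ⟨this, this⟩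
  have hlt : E < S₀ := hE.lt hEP
  let M : Subgroup G :=
    { carrier := {n | n ∈ N ∧ Chain (P : Subgroup G) (TameOk P) (E : Set G) n}
      one_mem' := ⟨one_mem _, .one hE.le⟩
      mul_mem' := fun {a b} ha hb => ⟨mul_mem ha.1 hb.1, ha.2.trans (by
        rw [← coe_cv, cv_of_mem ha.1]; exact hb.2)⟩
      inv_mem' := fun {a} ha => ⟨inv_mem ha.1, by
        have := ha.2.symm tameOk_inv
        rwa [← coe_cv, cv_of_mem ha.1] at this⟩ }
  have hbig : ∀ n ∈ N, E < S₀ ⊓ cv n⁻¹ S₀ → n ∈ M := fun n hn hF =>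
    ⟨hn, (ih _ n hF (inf_le_left.trans inf_le_left) (by
      refine le_trans ?_ (inf_le_left : S₀ ≤ (P : Subgroup G))
      refine (cv_mono n inf_le_right).trans ?_
      rw [cv_cv, inv_mul_cancel, cv_one])).mono hF.le⟩
  suffices h : N ≤ M from fun n hn => (h hn).2
  by_cases htame : ∃ S₁, IsSylIn p S₁ N ∧ S₀ ⊓ S₁ = E
  · obtain ⟨S₁, hS₁, hmeet⟩ := htame
    obtain ⟨T, hPT, hT, -⟩ := exists_tame hE hS₁ hmeet
    set K := closure {x : G | x ∈ N ∧ ∃ k : ℕ, orderOf x = p ^ k} with hK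
    refine le_of_frattini (K := K) hE.syl ?_ ((closure_le _).2 fun x hx => hx.1) ?_ ?_ ?_
    · intro x hx
      refine subset_closure ⟨hx.2, ?_⟩
      obtain ⟨k, hk⟩ := P.2 ⟨x, hx.1⟩
      obtain ⟨i, -, hi⟩ := (Nat.dvd_prime_pow hp.out).1
        (orderOf_dvd_of_pow_eq_one (congrArg Subtype.val hk : x ^ p ^ k = 1))
      exact ⟨i, hi⟩
    · intro n hn
      rw [← cv_eq_self_iff]
      refine eq_of_le_of_card_ge (subgroup_subset_of_closure n ?_) (card_cv n K).ge
      rintro _ ⟨x, ⟨hxN, k, hk⟩, rfl⟩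
      refine subset_closure ⟨mul_mem (mul_mem (inv_mem hn) hxN) hn, k, ?_⟩
      have := MulEquiv.orderOf_eq (MulAut.conj n⁻¹) x
      rw [MulAut.conj_apply, inv_inv] at this
      rw [this, hk]
    · exact (closure_le _).2 fun x hx =>
        ⟨hx.1, .single hE.le hx.1 ⟨T, hPT.symm, hT, Or.inr hx.2⟩ Set.Subset.rfl⟩
    · exact fun n hn => ⟨hn.1, (ih S₀ n hlt inf_le_left
        ((cv_of_mem hn.2).le.trans inf_le_left)).mono hlt.le⟩
  · intro n hn
    refine hbig n hn (lt_of_le_of_ne (le_inf hlt.le ?_) fun e => htame ⟨_, ?_, e.symm⟩)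
    · rw [← cv_of_mem (inv_mem hn)]; exact cv_mono _ hlt.le
    · have := hE.syl.conj n
      rw [conj_map_of_mem (le_normalizer hn)] at this
      rwa [cv, inv_inv]

end Cfsg.Agent.Techniques.Alperin.Tame
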