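import Cfsg.Agent.Lib.Transfer.Fusion
import Cfsg.Agent.Lib.Transfer.Frobenius
import Cfsg.Agent.Lib.CharP.Sylow

/-!
The induction underlying the fusion theorems of Alperin and Goldschmidt.

Throughout `cv g D = g⁻¹ D g`.
-/

set_option autoImplicit false

namespace Cfsg.Agent.Techniques.Alperin.Basic

open Subgroup Cfsg.Agent.CharP
open Cfsg.Agent.Transfer

variable {G : Type*} [Group G] {p : ℕ}

/-- The conjugate `g⁻¹ D g`. -/
def cv (g : G) (D : Subgroup G) : Subgroup G := D.map (MulAut.conj g⁻¹).toMonoidHom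

theorem mem_cv {g x : G} {D : Subgroup G} : x ∈ cv g D ↔ g * x * g⁻¹ ∈ D := by
  rw [cv, Fusion.mem_map_conj, inv_inv]

theorem conj_mem_cv {g x : G} {D : Subgroup G} (hx : x ∈ D) : g⁻¹ * x * g ∈ cv g D :=
  mem_cv.2 (by simpa [mul_assoc] using hx)

theorem cv_cv (a b : G) (D : Subgroup G) : cv b (cv a D) = cv (a * b) D := by
  rw [cv, cv, cv, ← Fusion.map_conj_mul, mul_inv_rev]

theorem cv_one (D : Subgroup G) : cv 1 D = D := by rw [cv, inv_one, Fusion.map_conj_one]

theorem cv_mono (g : G) {D D' : Subgroup G} (h : D ≤ D') : cv g D ≤ cv g D' := map_mono h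

theorem card_cv (g : G) (D : Subgroup G) : Nat.card (cv g D) = Nat.card D :=
  Fusion.card_map_conj _ _

theorem cv_eq_self_iff {g : G} {D : Subgroup G} : cv g D = D ↔ g ∈ normalizer (D : Set G) := by
  rw [cv, Fusion.map_conj_eq_self_iff, Subgroup.inv_mem_iff]

theorem cv_of_mem {g : G} {D : Subgroup G} (hg : g ∈ normalizer (D : Set G)) : cv g D = D :=
  cv_eq_self_iff.2 hg

theorem cv_normalizer (g : G) (D : Subgroup G) :
    cv g (normalizer (D : Set G)) = normalizer (cv g D : Set G) :=
  map_equiv_normalizer_eq D (MulAut.conj g⁻¹)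

theorem cv_eq_iff {g : G} {D E : Subgroup G} : cv g D = E ↔ D = cv g⁻¹ E := by
  constructor
  · rintro rfl; rw [cv_cv, mul_inv_cancel, cv_one]
  · rintro rfl; rw [cv_cv, inv_mul_cancel, cv_one]

/-- `E ≤ P` with `N_P(E)` Sylow in `N_G(E)`. -/
structure FullyNormalized (p : ℕ) (P E : Subgroup G) : Prop where
  le : E ≤ P
  syl : IsSylIn p (P ⊓ normalizer (E : Set G)) (normalizer (E : Set G))

variable [Finite G] [hp : Fact p.Prime] {P : Sylow p G}

theorem FullyNormalized.lt {E : Subgroup G} (h : FullyNormalized p (P : Subgroup G) E)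
    (hne : E ≠ P) : E < (P : Subgroup G) ⊓ normalizer (E : Set G) :=
  Frobenius.lt_inf_normalizer P.2 (lt_of_le_of_ne h.le hne)

/-- Every subgroup of `P` has a fully normalized conjugate, reached by an element carrying `N_P(D)`
into `P`. -/
theorem exists_fullyNormalized {D : Subgroup G} (hD : D ≤ (P : Subgroup G)) :
    ∃ a : G, cv a ((P : Subgroup G) ⊓ normalizer (D : Set G)) ≤ (P : Subgroup G) ∧
      FullyNormalized p (P : Subgroup G) (cv a D) := by
  obtain ⟨S, hS, hDS⟩ := exists_isSylIn_ge (p := p)
    (P := (P : Subgroup G) ⊓ normalizer (D : Set G)) (P.2.to_le inf_le_left) inf_le_right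
  obtain ⟨P', hP'⟩ := hS.isPGroup.exists_le_sylow
  obtain ⟨k, hk⟩ := MulAction.exists_smul_eq G P' P
  have hSP : cv k⁻¹ S ≤ (P : Subgroup G) := by
    rw [← hk, Fusion.coe_smul_eq_map, cv, inv_inv]
    exact map_mono hP'
  refine ⟨k⁻¹, (cv_mono _ hDS).trans hSP, ?_, ?_⟩
  · exact ((cv_mono _ (le_inf hD le_normalizer)).trans (cv_mono _ hDS)).trans hSP
  · have hS' : IsSylIn p (cv k⁻¹ S) (normalizer (cv k⁻¹ D : Set G)) := by
      rw [← cv_normalizer]
      exact hS.conj _
    have heq : (P : Subgroup G) ⊓ normalizer (cv k⁻¹ D : Set G) = cv k⁻¹ S :=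
      hS'.eq_of_le (P.2.to_le inf_le_left) inf_le_right (le_inf hSP hS'.le)
    rwa [heq]

/-- The fusion induction. A relation holding of `(D, g)`, stable under restriction, composition and
inversion, holds of every `D, gDg⁻¹ ≤ P` as soon as, for fully normalized `E`, it holds of the
elements of `N_G(E)` whenever it holds of all strict overgroups of `E` in `P`. -/
theorem induction (Φ : Subgroup G → G → Prop)
    (mono : ∀ D D' g, D ≤ D' → Φ D' g → Φ D g)
    (mul : ∀ D a b, Φ D a → Φ (cv a D) b → Φ D (a * b))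
    (symm : ∀ D a, Φ D a → Φ (cv a D) a⁻¹)
    (key : ∀ E, FullyNormalized p (P : Subgroup G) E →
      (∀ (F : Subgroup G) g, E < F → F ≤ (P : Subgroup G) → cv g F ≤ (P : Subgroup G) → Φ F g) →
      ∀ n ∈ normalizer (E : Set G), Φ E n)
    (D : Subgroup G) (g : G) (hD : D ≤ (P : Subgroup G)) (hg : cv g D ≤ (P : Subgroup G)) :
    Φ D g := by
  generalize hm : Nat.card ↥(P : Subgroup G) - Nat.card D = m
  induction m using Nat.strong_induction_on generalizing D g with
  | _ m ih =>
    have big : ∀ (F : Subgroup G) g, Nat.card D < Nat.card F → F ≤ (P : Subgroup G) → cv g F ≤ (P : Subgroup G) →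
        Φ F g := by
      intro F g hF hFP hFg
      refine ih _ ?_ F g hFP hFg rfl
      have := card_le_of_le hFP
      omega
    have hkey : ∀ E, FullyNormalized p (P : Subgroup G) E → Nat.card E = Nat.card D →
        ∀ n ∈ normalizer (E : Set G), Φ E n := by
      intro E hE hcard
      refine key E hE fun F g hEF hFP hFg => big F g ?_ hFP hFg
      rw [← hcard]
      refine lt_of_le_of_ne (card_le_of_le hEF.le) fun e => hEF.ne ?_
      exact eq_of_le_of_card_ge hEF.le e.ge
    rcases eq_or_lt_of_le hD with rfl | hlt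
    · have hgP : g ∈ normalizer ((P : Subgroup G) : Set G) :=
        cv_eq_self_iff.1 (eq_of_le_of_card_ge hg (card_cv g _).ge)
      exact hkey _ ⟨le_rfl, by
        rw [inf_eq_left.2 le_normalizer]
        exact isSylIn_of_not_dvd P.2 le_normalizer fun hd =>
          P.not_dvd_index (hd.trans (relIndex_dvd_index_of_le le_normalizer))⟩ rfl g hgP
    · set F := cv g D with hF
      have hltF : F < (P : Subgroup G) := lt_of_le_of_ne hg fun e => by
        have h1 : Nat.card F = Nat.card D := card_cv g D
        rw [e] at h1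
        exact hlt.ne (eq_of_le_of_card_ge hD h1.le)
      obtain ⟨a, haP, haF⟩ := exists_fullyNormalized hD
      obtain ⟨b, hbP, hbF⟩ := exists_fullyNormalized hg
      have hDlt : ∀ X : Subgroup G, X < (P : Subgroup G) → Nat.card X = Nat.card D →
          Nat.card D < Nat.card ↥((P : Subgroup G) ⊓ normalizer (X : Set G)) := by
        intro X hX hXc
        have h := Frobenius.lt_inf_normalizer P.2 hX
        rw [← hXc]
        exact lt_of_le_of_ne (card_le_of_le h.le) fun e => h.ne (eq_of_le_of_card_ge h.le e.ge)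
      have h1 : Φ D a := mono _ _ _ (le_inf hD le_normalizer)
        (big _ a (hDlt D hlt rfl) inf_le_left haP)
      have h2 : Φ F b := mono _ _ _ (le_inf hg le_normalizer)
        (big _ b (hDlt F hltF (card_cv g D)) inf_le_left hbP)
      -- move between the fully normalized conjugates
      set E := cv a D with hE
      set E' := cv b F with hE'
      have hmid : Φ E (a⁻¹ * g * b) := by
        set c := a⁻¹ * g * b with hcdef
        have hcE : cv c E = E' := by
          rw [hcdef, hE, cv_cv, ← mul_assoc, ← mul_assoc, mul_inv_cancel, one_mul, ← cv_cv]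
        -- carry `N_P(E')` into `N_P(E)`
        have hS1 : IsSylIn p (cv c⁻¹ ((P : Subgroup G) ⊓ normalizer (E' : Set G)))
            (normalizer (E : Set G)) := by
          have := hbF.syl.conj c
          rw [show normalizer (E : Set G) = cv c⁻¹ (normalizer (E' : Set G)) by
            rw [cv_normalizer, ← hcE, cv_cv, mul_inv_cancel, cv_one]]
          rw [cv, cv, inv_inv]
          exact this
        obtain ⟨n, hn, hne⟩ := hS1.exists_conj haF.syl
        have hcn : cv (c⁻¹ * n⁻¹) ((P : Subgroup G) ⊓ normalizer (E' : Set G)) ≤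
            (P : Subgroup G) := by
          rw [← cv_cv, cv.eq_1 n⁻¹, inv_inv, hne]
          exact inf_le_left
        have h3 : Φ E' (c⁻¹ * n⁻¹) := mono _ _ _ (le_inf hbF.le le_normalizer)
          (big _ _ (hDlt E' (lt_of_le_of_ne hbF.le fun e => hltF.ne
            (eq_of_le_of_card_ge hg (by rw [← card_cv b F, ← hE', e]))) (by
              rw [hE', card_cv, hF, card_cv])) inf_le_left hcn)
        have h4 := symm _ _ h3
        have hEE : cv (c⁻¹ * n⁻¹) E' = E := by
          rw [← hcE, cv_cv, ← mul_assoc, mul_inv_cancel, one_mul, cv_of_mem (inv_mem hn)]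
        rw [hEE, mul_inv_rev, inv_inv, inv_inv] at h4
        -- `c` and `n * c` differ by a normalizing element
        have hd' : c * (n * c)⁻¹ ∈ normalizer (E : Set G) := by
          rw [← cv_eq_self_iff, ← cv_cv, hcE, mul_inv_rev, hEE]
        have h5 := mul _ _ _ (hkey E haF (card_cv a D) _ hd') (by rwa [cv_of_mem hd'])
        rwa [show c * (n * c)⁻¹ * (n * c) = c by group] at h5
      have hFb : cv (g * b) D = E' := by rw [← cv_cv]
      have h6 : Φ D (g * b) := by
        have := mul _ _ _ h1 hmid
        rwa [show a * (a⁻¹ * g * b) = g * b by group] at this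
      have h7 := symm _ _ h2
      have := mul _ _ _ h6 (by rw [hFb]; exact h7)
      rwa [mul_inv_cancel_right] at this

end Cfsg.Agent.Techniques.Alperin.Basic
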