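import Cfsg.Agent.Techniques.Alperin.Radical
import Cfsg.Agent.Lib.Coprime.Generation

/-!
The strong form of the Alperin–Goldschmidt theorem: normalizers with disconnected Sylow graph modulo
the subgroup, and elements of `O^p` of the least relevant normal subgroup.
-/

set_option autoImplicit false

namespace Cfsg.Agent.Techniques.Alperin.Strong

open Subgroup Cfsg.Agent.CharP
open Cfsg.Agent.Transfer
open Cfsg.Agent.Techniques.Alperin.Basic Cfsg.Agent.Techniques.Alperin.Chain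
open Cfsg.Agent.Techniques.Alperin.Tame Cfsg.Agent.Techniques.Alperin.Radical
open scoped commutatorElement

section abstract

variable {Q : Type*} [Group Q] [Finite Q] {p : ℕ} [hp : Fact p.Prime]

/-- With a strongly `p`-embedded subgroup, two normal subgroups of order divisible by `p` meet in one
of order divisible by `p`. -/
theorem dvd_card_inf {H : Subgroup Q} (hH : H ≠ ⊤) (hpH : p ∣ Nat.card H)
    (hse : ∀ g : Q, g ∉ H → ¬ p ∣ Nat.card ↥(H ⊓ H.map (MulAut.conj g).toMonoidHom))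
    {X Y : Subgroup Q} [X.Normal] [Y.Normal] (hX : p ∣ Nat.card X) (hY : p ∣ Nat.card Y) :
    p ∣ Nat.card ↥(X ⊓ Y) := by
  by_contra hK
  set K := X ⊓ Y with hKdef
  have hmem : ∀ {x g : Q}, orderOf x = p → x ∈ H → g * x * g⁻¹ ∈ H → g ∈ H := by
    intro x g hx hxH hgx
    by_contra hg
    refine hse g hg ?_
    rw [← hx, show orderOf x = orderOf (g * x * g⁻¹) from (MulEquiv.orderOf_eq (MulAut.conj g) x).symm, ← Subgroup.orderOf_mk (H := H ⊓ H.map (MulAut.conj g).toMonoidHom) (g * x * g⁻¹)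
      ⟨hgx, x, hxH, rfl⟩]
    exact orderOf_dvd_natCard _
  -- a Sylow subgroup inside `H`
  obtain ⟨T, hT⟩ := exists_isSylIn p H
  obtain ⟨S, hTS⟩ := hT.isPGroup.exists_le_sylow
  obtain ⟨c, hc⟩ := exists_prime_orderOf_dvd_card' (G := T) p (by
    obtain ⟨k, hk⟩ := IsPGroup.iff_card.mp hT.isPGroup
    rcases Nat.eq_zero_or_pos k with rfl | hk0
    · refine absurd ?_ hT.not_dvd
      have := eq_bot_of_card_eq T (by rw [hk, pow_zero])
      rwa [this, relIndex_bot_left]
    · exact hk ▸ dvd_pow_self p hk0.ne')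
  rw [← orderOf_coe] at hc
  have hSH : (S : Subgroup Q) ≤ H := by
    by_contra hne
    have hlt : T < (S : Subgroup Q) := lt_of_le_not_ge hTS fun h => hne (h.trans hT.le)
    obtain ⟨x, ⟨hxS, hxN⟩, hxT⟩ := SetLike.exists_of_lt (Frobenius.lt_inf_normalizer S.2 hlt)
    refine hxT ?_
    have hxH : x ∈ H := hmem hc (hT.le c.2) (hT.le ((mem_normalizer_iff.mp hxN _).mp c.2))
    have := hT.eq_of_le (S.2.to_le inf_le_left : IsPGroup p ↥((S : Subgroup Q) ⊓ H)) inf_le_right
      (le_inf hTS hT.le)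
    exact this.le ⟨hxS, hxH⟩
  have hfirst : ∀ Z : Subgroup Q, Z.Normal → p ∣ Nat.card Z →
      ∃ a ∈ (S : Subgroup Q) ⊓ Z, orderOf a = p := by
    intro Z hZ hpZ
    obtain ⟨a, ha⟩ := exists_prime_orderOf_dvd_card' (G := ↥((S : Subgroup Q) ⊓ Z)) p (by
      have hsyl := isSylIn_inf_normal S Z
      obtain ⟨k, hk⟩ := IsPGroup.iff_card.mp hsyl.isPGroup
      rcases Nat.eq_zero_or_pos k with rfl | hk0
      · refine absurd ?_ hsyl.not_dvd
        rw [eq_bot_of_card_eq ((S : Subgroup Q) ⊓ Z) (by rw [hk, pow_zero]), relIndex_bot_left]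
        exact hpZ
      · exact hk ▸ dvd_pow_self p hk0.ne')
    exact ⟨a, a.2, by rw [orderOf_coe, ha]⟩
  obtain ⟨a, ⟨haS, haX⟩, ha⟩ := hfirst X inferInstance hX
  obtain ⟨b, ⟨hbS, hbY⟩, hb⟩ := hfirst Y inferInstance hY
  have hKS : ∀ z ∈ K, z ∈ (S : Subgroup Q) → z = 1 := by
    intro z hz hzS
    obtain ⟨k, hk⟩ := IsPGroup.iff_card.mp (S.2.to_le (inf_le_right : K ⊓ (S : Subgroup Q) ≤ _))
    rcases Nat.eq_zero_or_pos k with rfl | hk0
    · exact Subgroup.mem_bot.mp (eq_bot_of_card_eq (K ⊓ (S : Subgroup Q)) (by rw [hk, pow_zero]) ▸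
        (⟨hz, hzS⟩ : z ∈ K ⊓ (S : Subgroup Q)))
    · exact absurd ((hk ▸ dvd_pow_self p hk0.ne').trans (card_dvd_of_le inf_le_left)) hK
  have hcomm : ∀ u ∈ X, ∀ v ∈ Y, ⁅u, v⁆ ∈ K := fun u hu v hv =>
    commutator_le_inf X Y (commutator_mem_commutator hu hv)
  have hab : Commute a b := commutatorElement_eq_one_iff_mul_comm.mp
    (hKS _ (hcomm a haX b hbY) (by
      rw [commutatorElement_def]
      exact mul_mem (mul_mem (mul_mem haS hbS) (inv_mem haS)) (inv_mem hbS)))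
  set A := closure ({a, b} : Set Q) with hA
  have hAS : A ≤ (S : Subgroup Q) := by
    rw [hA, closure_le]
    rintro z (rfl | rfl)
    · exact haS
    · exact hbS
  have hAc : IsMulCommutative A := by
    refine isMulCommutative_closure ?_
    rintro u (rfl | rfl) v (rfl | rfl)
    · rfl
    · exact hab
    · exact hab.symm
    · rfl
  have hcyc : ¬ IsCyclic A := by
    intro hcy
    have hb1 : b ∉ zpowers a := by
      intro h
      have hz : zpowers a ≤ X := zpowers_le.mpr haX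
      have := hKS b ⟨hz h, hbY⟩ hbS
      rw [this, orderOf_one] at hb
      exact hp.out.ne_one hb.symm
    classical
    have : Fintype A := Fintype.ofFinite _
    set a' : A := ⟨a, subset_closure (Or.inl rfl)⟩ with ha'
    set b' : A := ⟨b, subset_closure (Or.inr rfl)⟩ with hb'
    have hoa : orderOf a' = p := by rw [ha', orderOf_mk, ha]
    have hob : orderOf b' = p := by rw [hb', orderOf_mk, hb]
    have hb'1 : b' ∉ zpowers a' := fun h => by
      obtain ⟨i, hi⟩ := mem_zpowers_iff.mp h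
      exact hb1 (mem_zpowers_iff.mpr ⟨i, by simpa using congrArg Subtype.val hi⟩)
    have h1 := IsCyclic.card_pow_eq_one_le (α := A) hp.out.pos
    have h2 : insert b' (Finset.univ.filter (fun z => z ∈ zpowers a')) ⊆
        Finset.univ.filter (fun z : A => z ^ p = 1) := by
      intro z hz
      simp only [Finset.mem_insert, Finset.mem_filter, Finset.mem_univ, true_and] at hz ⊢
      rcases hz with rfl | hz
      · exact orderOf_dvd_iff_pow_eq_one.mp hob.dvd
      · obtain ⟨i, rfl⟩ := mem_zpowers_iff.mp hz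
        rw [← zpow_natCast, ← zpow_mul, mul_comm, zpow_mul, zpow_natCast, ← hoa, pow_orderOf_eq_one,
          one_zpow]
    have h3 := (Finset.card_le_card h2).trans h1
    rw [Finset.card_insert_of_notMem (by simp [hb'1]), ← Fintype.card_subtype, ← Nat.card_eq_fintype_card] at h3
    rw [show Nat.card {z // z ∈ zpowers a'} = p from (Nat.card_zpowers a').trans hoa] at h3
    omega
  have hKH : K ≤ H := by
    have hKn : K.Normal := inferInstance
    rw [← Coprime.fixedGen_eq hcyc (by rw [normalizer_eq_top]; exact le_top) (A := A) (K := K) ?_]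
    · refine iSup₂_le fun d hd => ?_
      obtain ⟨hdA, hd1⟩ := hd
      rintro k ⟨-, hk⟩
      by_contra hkH
      refine hse k hkH ?_
      obtain ⟨i, hi⟩ := IsPGroup.iff_card.mp (S.2.to_le (zpowers_le.mpr (hAS hdA)))
      have hi0 : i ≠ 0 := by
        rintro rfl
        rw [Nat.card_zpowers, pow_zero, orderOf_eq_one_iff] at hi
        exact hd1 hi
      refine (hi ▸ dvd_pow_self p hi0 : p ∣ Nat.card ↥(zpowers d)).trans (card_dvd_of_le ?_)
      rw [zpowers_le]
      refine ⟨hSH (hAS hdA), d, hSH (hAS hdA), ?_⟩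
      show k * d * k⁻¹ = d
      rw [mem_centralizer_singleton_iff.mp hk, mul_inv_cancel_right]
    · obtain ⟨i, hi⟩ := IsPGroup.iff_card.mp (S.2.to_le hAS)
      rw [hi]
      exact Nat.Coprime.pow_left i ((hp.out.coprime_iff_not_dvd).mpr hK)
  have hYH : Y ≤ H := by
    intro g hg
    refine hmem ha (hSH haS) ?_
    have h1 : ⁅g, a⁆ ∈ K := commutator_le_inf X Y (commutator_comm X Y ▸ commutator_mem_commutator hg haX)
    have := mul_mem (hKH h1) (hSH haS)
    rwa [commutatorElement_def, inv_mul_cancel_right] at this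
  refine hH (eq_top_iff.mpr fun g _ => hmem hb (hYH hbY) (hYH ?_))
  exact Normal.conj_mem inferInstance b hbY g

end abstract

variable {G : Type*} [Group G] [Finite G] {p : ℕ} [hp : Fact p.Prime] {P : Sylow p G}

/-- `O^p(X)` in the ambient group. -/
abbrev resOf (p : ℕ) (X : Subgroup G) : Subgroup G := (Cfsg.pResidual p ↥X).map X.subtype

/-- `N_G(E)/E` has a strongly `p`-embedded subgroup, said in `G`. -/
def Disc (p : ℕ) (E : Subgroup G) : Prop :=
  ∃ M : Subgroup G, E ≤ M ∧ M ≤ normalizer (E : Set G) ∧ M ≠ normalizer (E : Set G) ∧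
    p ∣ E.relIndex M ∧ ∀ g ∈ normalizer (E : Set G), g ∉ M → ¬ p ∣ E.relIndex (M ⊓ cv g M)

/-- `X/E` is the least normal subgroup of `N_G(E)/E` of order divisible by `p`. -/
def IsXMin (p : ℕ) (E X : Subgroup G) : Prop :=
  E ≤ X ∧ X ≤ normalizer (E : Set G) ∧ normalizer (E : Set G) ≤ normalizer (X : Set G) ∧
    p ∣ E.relIndex X ∧ ∀ Y : Subgroup G, E ≤ Y → Y ≤ normalizer (E : Set G) →
      normalizer (E : Set G) ≤ normalizer (Y : Set G) → p ∣ E.relIndex Y → X ≤ Y

/-- The steps of the strong theorem. -/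
def StrongOk (p : ℕ) (P D : Subgroup G) (x : G) : Prop :=
  IsCR p P D ∧ Disc p D ∧ ∃ X, IsXMin p D X ∧ x ∈ resOf p X

/-- The image of `X` in `N_G(E)/E`. -/
abbrev bar (E X : Subgroup G) [(E.subgroupOf (normalizer (E : Set G))).Normal] :
    Subgroup (↥(normalizer (E : Set G)) ⧸ E.subgroupOf (normalizer (E : Set G))) :=
  (X.subgroupOf (normalizer (E : Set G))).map (QuotientGroup.mk' _)

omit [Finite G] in
theorem mem_bar {E X : Subgroup G} [(E.subgroupOf (normalizer (E : Set G))).Normal] (hEX : E ≤ X)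
    (x : ↥(normalizer (E : Set G))) : QuotientGroup.mk' _ x ∈ bar E X ↔ (x : G) ∈ X := by
  constructor
  · rintro ⟨y, hy, hyx⟩
    have h : y⁻¹ * x ∈ E.subgroupOf (normalizer (E : Set G)) := QuotientGroup.eq.mp hyx
    have := X.mul_mem (mem_subgroupOf.mp hy) (hEX (mem_subgroupOf.mp h))
    simpa using this
  · exact fun hx => ⟨x, mem_subgroupOf.mpr hx, rfl⟩

omit [Finite G] in
theorem card_bar {E X : Subgroup G} [(E.subgroupOf (normalizer (E : Set G))).Normal]
    (hXN : X ≤ normalizer (E : Set G)) : Nat.card (bar E X) = E.relIndex X := by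
  rw [bar, ← relIndex_ker, QuotientGroup.ker_mk']
  exact relIndex_subgroupOf hXN

theorem exists_stronglyEmbedded {E : Subgroup G} [(E.subgroupOf (normalizer (E : Set G))).Normal]
    (h : Disc p E) : ∃ H : Subgroup (↥(normalizer (E : Set G)) ⧸ E.subgroupOf (normalizer (E : Set G))),
      H ≠ ⊤ ∧ p ∣ Nat.card H ∧
        ∀ g, g ∉ H → ¬ p ∣ Nat.card ↥(H ⊓ H.map (MulAut.conj g).toMonoidHom) := by
  obtain ⟨M, hEM, hMN, hne, hd, hse⟩ := h
  refine ⟨bar E M, fun htop => hne (le_antisymm hMN fun x hx => ?_), by rw [card_bar hMN]; exact hd, ?_⟩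
  · exact (mem_bar hEM ⟨x, hx⟩).mp (htop ▸ mem_top _)
  intro g hg hpd
  obtain ⟨g, rfl⟩ := QuotientGroup.mk'_surjective _ g
  rw [mem_bar hEM] at hg
  have hg' : (g : G)⁻¹ ∉ M := fun h => hg (by simpa using M.inv_mem h)
  refine hse _ ((normalizer (E : Set G)).inv_mem g.2) hg' ?_
  have hEi : E ≤ M ⊓ cv (g : G)⁻¹ M := by
    refine le_inf hEM ?_
    calc E = cv (g : G)⁻¹ E := (cv_of_mem ((normalizer (E : Set G)).inv_mem g.2)).symm
      _ ≤ _ := cv_mono _ hEM
  rw [← card_bar (inf_le_left.trans hMN)]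
  refine hpd.trans (card_dvd_of_le ?_)
  intro z hz
  obtain ⟨z, rfl⟩ := QuotientGroup.mk'_surjective _ z
  obtain ⟨h1, w, hw, hwz⟩ := hz
  rw [mem_bar hEi]
  refine ⟨(mem_bar hEM z).mp h1, ?_⟩
  obtain ⟨w, rfl⟩ := QuotientGroup.mk'_surjective _ w
  have e : z⁻¹ * (g * w * g⁻¹) ∈ E.subgroupOf (normalizer (E : Set G)) := by
    refine QuotientGroup.eq.mp ?_
    exact hwz.symm.trans (by simp)
  have hwM : (g : G) * (w : G) * (g : G)⁻¹ ∈ cv (g : G)⁻¹ M := by
    rw [mem_cv]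
    simpa [mul_assoc] using (mem_bar hEM w).mp hw
  have hE' : ((g : G) * w * (g : G)⁻¹)⁻¹ * (z : G) ∈ cv (g : G)⁻¹ M := by
    have := (cv (g : G)⁻¹ M).inv_mem (hEi (mem_subgroupOf.mp e)).2
    simpa [mul_assoc] using this
  have := mul_mem hwM hE'
  rwa [mul_inv_cancel_left] at this

theorem exists_xmin {E : Subgroup G} (h : Disc p E) : ∃ X, IsXMin p E X := by
  have hn : (E.subgroupOf (normalizer (E : Set G))).Normal := normal_in_normalizer
  obtain ⟨H, hH1, hH2, hH3⟩ := exists_stronglyEmbedded h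
  obtain ⟨M, hEM, hMN, -, hd, -⟩ := h
  let S : Set (Subgroup G) := {X | E ≤ X ∧ X ≤ normalizer (E : Set G) ∧
    normalizer (E : Set G) ≤ normalizer (X : Set G) ∧ p ∣ E.relIndex X}
  have hne : S.Nonempty := ⟨normalizer (E : Set G), le_normalizer, le_rfl, le_normalizer,
    hd.trans (Dvd.intro _ (relIndex_mul_relIndex E M _ hEM hMN))⟩
  obtain ⟨X, ⟨h1, h2, h3, h4⟩, hmin⟩ := Set.exists_min_image S (fun X => Nat.card X) (Set.toFinite _) hne
  refine ⟨X, h1, h2, h3, h4, fun Y e1 e2 e3 e4 => ?_⟩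
  have hXY : X ⊓ Y ∈ S := by
    refine ⟨le_inf h1 e1, inf_le_left.trans h2,
      le_trans (le_inf h3 e3) (Set.Subset.trans ?_ le_rfl), ?_⟩
    · intro g hg
      rw [SetLike.mem_coe, mem_normalizer_iff]
      intro x
      simp only [mem_inf, (mem_normalizer_iff.mp hg.1 x), (mem_normalizer_iff.mp hg.2 x)]
    have hXn : (bar E X).Normal :=
      ((normal_subgroupOf_iff_le_normalizer h2).mpr h3).map _ (QuotientGroup.mk'_surjective _)
    have hYn : (bar E Y).Normal :=
      ((normal_subgroupOf_iff_le_normalizer e2).mpr e3).map _ (QuotientGroup.mk'_surjective _)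
    have hd2 := dvd_card_inf hH1 hH2 hH3 (X := bar E X) (Y := bar E Y)
      (by rwa [card_bar h2]) (by rwa [card_bar e2])
    rw [← card_bar (inf_le_left.trans h2)]
    refine hd2.trans (card_dvd_of_le ?_)
    intro z hz
    obtain ⟨z, rfl⟩ := QuotientGroup.mk'_surjective _ z
    exact (mem_bar (le_inf h1 e1) z).mpr ⟨(mem_bar h1 z).mp hz.1, (mem_bar e1 z).mp hz.2⟩
  exact (eq_of_le_of_card_ge inf_le_left (hmin _ hXY)).ge.trans inf_le_right

/-! ### Equivariance -/

omit [Finite G] in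
theorem cv_centralizer (y : G) (D : Subgroup G) :
    cv y (centralizer (D : Set G)) = centralizer (cv y D : Set G) := by
  ext x
  rw [mem_cv, mem_centralizer_iff, mem_centralizer_iff]
  constructor
  · intro h d hd
    have := h (y * d * y⁻¹) (mem_cv.mp hd)
    calc d * x = y⁻¹ * ((y * d * y⁻¹) * (y * x * y⁻¹)) * y := by group
      _ = y⁻¹ * ((y * x * y⁻¹) * (y * d * y⁻¹)) * y := by rw [this]
      _ = _ := by group
  · intro h d hd
    have := h (y⁻¹ * d * y) (conj_mem_cv hd)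
    calc d * (y * x * y⁻¹) = y * ((y⁻¹ * d * y) * x) * y⁻¹ := by group
      _ = y * (x * (y⁻¹ * d * y)) * y⁻¹ := by rw [this]
      _ = _ := by group

omit hp in
theorem kOf_cv (y : G) (H : Subgroup G) : kOf p (cv y H) = cv y (kOf p H) := by
  have e := PLocal.Cores.map_pPrimeCore_equiv (p := p)
    (H.equivMapOfInjective (MulAut.conj y⁻¹).toMonoidHom (MulAut.conj y⁻¹).injective)
  show Subgroup.map _ (Cfsg.pPrimeCore p ↥(H.map (MulAut.conj y⁻¹).toMonoidHom)) = _
  rw [← e]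
  simp only [cv, map_map]
  rfl

omit hp in
theorem mOf_cv (y : G) (H : Subgroup G) : mOf p (cv y H) = cv y (mOf p H) := by
  have e := PLocal.Cores.map_pPrimePCore_equiv (p := p)
    (H.equivMapOfInjective (MulAut.conj y⁻¹).toMonoidHom (MulAut.conj y⁻¹).injective)
  show Subgroup.map _ (Cfsg.pPrimePCore p ↥(H.map (MulAut.conj y⁻¹).toMonoidHom)) = _
  rw [← e]
  simp only [cv, map_map]
  rfl

theorem resOf_cv (y : G) (H : Subgroup G) : resOf p (cv y H) = cv y (resOf p H) := by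
  have e := Transfer.NormalPComplement.map_pResidual_of_surjective (p := p)
    (f := (H.equivMapOfInjective (MulAut.conj y⁻¹).toMonoidHom (MulAut.conj y⁻¹).injective).toMonoidHom)
    (MulEquiv.surjective _)
  show Subgroup.map _ (Cfsg.pResidual p ↥(H.map (MulAut.conj y⁻¹).toMonoidHom)) = _
  rw [← e]
  simp only [cv, map_map]
  rfl

omit [Finite G] in
theorem cv_inf (y : G) (A B : Subgroup G) : cv y (A ⊓ B) = cv y A ⊓ cv y B :=
  Subgroup.map_inf _ _ _ (MulAut.conj y⁻¹).injective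

omit [Finite G] in
theorem cv_sup (y : G) (A B : Subgroup G) : cv y (A ⊔ B) = cv y A ⊔ cv y B :=
  Subgroup.map_sup _ _ _

theorem isCR_conj {y : G} (hy : y ∈ normalizer ((P : Subgroup G) : Set G)) {D : Subgroup G}
    (h : IsCR p (P : Subgroup G) D) : IsCR p (P : Subgroup G) (cv y D) := by
  have hP := cv_of_mem hy
  refine ⟨⟨hP ▸ cv_mono y h.fn.le, ?_⟩, ?_, ?_, ?_, ?_⟩
  · have := h.fn.syl.conj y⁻¹
    rw [show (normalizer (D : Set G)).map (MulAut.conj y⁻¹).toMonoidHom = cv y (normalizer (D : Set G))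
      from rfl, cv_normalizer] at this
    rw [← hP, ← cv_normalizer, ← cv_inf, cv_normalizer]
    exact this
  · rw [← hP, ← cv_centralizer, ← cv_inf]; exact cv_mono y h.centric
  · rw [← cv_centralizer, ← cv_normalizer, kOf_cv, ← cv_sup]; exact cv_mono y h.cent_le
  · rw [← cv_centralizer, ← cv_normalizer, kOf_cv]; exact cv_mono y h.comm
  · rw [← cv_normalizer, kOf_cv, mOf_cv, ← cv_sup, h.radical]

omit [Finite G] hp in
theorem relIndex_cv (y : G) (A B : Subgroup G) : (cv y A).relIndex (cv y B) = A.relIndex B :=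
  relIndex_map_map_of_injective A B (MulAut.conj y⁻¹).injective

theorem strongOk_conj {y : G} (hy : y ∈ normalizer ((P : Subgroup G) : Set G)) {D : Subgroup G} {x : G}
    (h : StrongOk p (P : Subgroup G) D x) : StrongOk p (P : Subgroup G) (cv y D) (y⁻¹ * x * y) := by
  obtain ⟨hcr, ⟨M, h1, h2, h3, h4, h5⟩, X, ⟨g1, g2, g3, g4, g5⟩, hx⟩ := h
  refine ⟨isCR_conj hy hcr, ⟨cv y M, cv_mono y h1, cv_normalizer y D ▸ cv_mono y h2,
    fun e => h3 ?_, by rwa [relIndex_cv], ?_⟩, cv y X, ⟨cv_mono y g1, cv_normalizer y D ▸ cv_mono y g2,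
      ?_, by rwa [relIndex_cv], ?_⟩, ?_⟩
  · rw [← cv_normalizer] at e
    exact map_injective (MulAut.conj y⁻¹).injective e
  · intro g hg hgM
    rw [← cv_normalizer, mem_cv] at hg
    rw [mem_cv] at hgM
    have := h5 _ hg hgM
    rwa [← relIndex_cv y, cv_inf, cv_cv, show y * g * y⁻¹ * y = y * g by group, ← cv_cv] at this
  · rw [← cv_normalizer, ← cv_normalizer]; exact cv_mono y g3
  · intro Y e1 e2 e3 e4
    have hY : cv y (cv y⁻¹ Y) = Y := by rw [cv_cv, inv_mul_cancel, cv_one]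
    rw [← hY] at e1 e2 e3 e4 ⊢
    rw [← cv_normalizer] at e2 e3
    rw [← cv_normalizer] at e3
    rw [relIndex_cv] at e4
    exact cv_mono y (g5 _ ((map_le_map_iff_of_injective (MulAut.conj y⁻¹).injective).mp e1)
      ((map_le_map_iff_of_injective (MulAut.conj y⁻¹).injective).mp e2)
      ((map_le_map_iff_of_injective (MulAut.conj y⁻¹).injective).mp e3) e4)
  · rw [resOf_cv]; exact conj_mem_cv hx

theorem strongOk_inv (D : Subgroup G) (x : G) (_ : x ∈ normalizer (D : Set G))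
    (h : StrongOk p (P : Subgroup G) D x) : StrongOk p (P : Subgroup G) D x⁻¹ := by
  obtain ⟨h1, h2, X, h3, h4⟩ := h
  exact ⟨h1, h2, X, h3, inv_mem h4⟩

/-! ### The relation -/

/-- `g` is a centralizing element, a chain, then an element of `N_G(P)`. -/
def Fus (P : Sylow p G) (D : Subgroup G) (g : G) : Prop :=
  ∃ c ∈ centralizer (D : Set G), ∃ g', ∃ y ∈ normalizer ((P : Subgroup G) : Set G), g = c * g' * y ∧
    Chain (P : Subgroup G) (StrongOk p (P : Subgroup G)) (D : Set G) g'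

theorem Fus.mono {D D' : Subgroup G} {g : G} (hD : D ≤ D') (h : Fus P D' g) : Fus P D g := by
  obtain ⟨c, hc, g', y, hy, hg, hch⟩ := h
  exact ⟨c, centralizer_le hD hc, g', y, hy, hg, hch.mono hD⟩

theorem Fus.mul {D : Subgroup G} {a b : G} (ha : Fus P D a) (hb : Fus P (cv a D) b) :
    Fus P D (a * b) := by
  obtain ⟨c, hc, a', y, hy, rfl, hca⟩ := ha
  obtain ⟨d, hd, b', z, hz, rfl, hcb⟩ := hb
  rw [coe_cv, ← cs_cs, ← cs_cs, cs_of_mem_centralizer hc] at hd hcb
  have hcb' := hcb.conj (inv_mem hy) fun D x _ _ h => strongOk_conj (inv_mem hy) h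
  rw [cs_cs, mul_inv_cancel, cs_one, inv_inv] at hcb'
  refine ⟨c * (a' * y * d * y⁻¹ * a'⁻¹), mul_mem hc ?_, a' * (y * b' * y⁻¹), y * z, mul_mem hy hz,
    by group, hca.trans hcb'⟩
  rw [mem_centralizer_iff]
  intro w hw
  have := mem_centralizer_iff.mp hd _ ⟨_, ⟨w, hw, rfl⟩, rfl⟩
  calc w * (a' * y * d * y⁻¹ * a'⁻¹) = a' * y * ((y⁻¹ * (a'⁻¹ * w * a') * y) * d) * y⁻¹ * a'⁻¹ := by group
    _ = a' * y * (d * (y⁻¹ * (a'⁻¹ * w * a') * y)) * y⁻¹ * a'⁻¹ := by rw [this]
    _ = _ := by group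

theorem Fus.symm {D : Subgroup G} {a : G} (ha : Fus P D a) : Fus P (cv a D) a⁻¹ := by
  obtain ⟨c, hc, a', y, hy, rfl, hca⟩ := ha
  have h1 := (hca.symm strongOk_inv).conj hy fun D x _ _ h => strongOk_conj hy h
  refine ⟨y⁻¹ * a'⁻¹ * c⁻¹ * a' * y, ?_, y⁻¹ * a'⁻¹ * y, y⁻¹, inv_mem hy, by group, ?_⟩
  · rw [coe_cv, ← cs_cs, ← cs_cs, cs_of_mem_centralizer hc, mem_centralizer_iff]
    rintro _ ⟨_, ⟨z, hz, rfl⟩, rfl⟩
    have := mem_centralizer_iff.mp (inv_mem hc) z hz
    calc y⁻¹ * (a'⁻¹ * z * a') * y * (y⁻¹ * a'⁻¹ * c⁻¹ * a' * y)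
        = y⁻¹ * a'⁻¹ * (z * c⁻¹) * a' * y := by group
      _ = y⁻¹ * a'⁻¹ * (c⁻¹ * z) * a' * y := by rw [this]
      _ = _ := by group
  · rwa [coe_cv, ← cs_cs, ← cs_cs, cs_of_mem_centralizer hc]

/-- The strong form of the Alperin–Goldschmidt theorem. -/
theorem strong_chain (P : Sylow p G) (A : Set G) (g : G) (hA : A ⊆ (P : Set G))
    (hAg : cs g A ⊆ (P : Set G)) : ∃ c ∈ centralizer A, ∃ g',
      ∃ y ∈ normalizer ((P : Subgroup G) : Set G), g = c * g' * y ∧
      Chain (P : Subgroup G) (StrongOk p (P : Subgroup G)) A g' := by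
  suffices h : Fus P (closure A) g by
    obtain ⟨c, hc, g', y, hy, hg, hch⟩ := h
    exact ⟨c, centralizer_le Subgroup.subset_closure hc, g', y, hy, hg, hch.mono Subgroup.subset_closure⟩
  refine Basic.induction (P := P) (Fus P) (fun _ _ _ h h' => h'.mono h)
    (fun _ _ _ h h' => h.mul h') (fun _ _ h => h.symm) ?_ (closure A) g ((closure_le _).2 hA)
    (subgroup_subset_of_closure g hAg)
  intro E hE ih
  set N := normalizer (E : Set G) with hN
  by_cases hEP : E = (P : Subgroup G)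
  · intro n hn
    refine ⟨1, one_mem _, 1, n, ?_, by group, .one hE.le⟩
    rw [← hEP]; exact hn
  have hCN : centralizer (E : Set G) ≤ N := centralizer_le_normalizer _
  let M : Subgroup G :=
    { carrier := {n | n ∈ N ∧ Fus P E n}
      one_mem' := ⟨one_mem _, 1, one_mem _, 1, 1, one_mem _, by group, .one hE.le⟩
      mul_mem' := fun {a b} ha hb => ⟨mul_mem ha.1 hb.1, ha.2.mul (by rw [cv_of_mem ha.1]; exact hb.2)⟩
      inv_mem' := fun {a} ha => ⟨inv_mem ha.1, by
        have := ha.2.symm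
        rwa [cv_of_mem ha.1] at this⟩ }
  suffices h : N ≤ M from fun n hn => (h hn).2
  have hA' : ∀ A : Subgroup G, E < A → A ≤ (P : Subgroup G) ⊓ N →
      N ⊓ normalizer (A : Set G) ≤ M := fun A hEA hAS n hn =>
    ⟨hn.1, (ih A n hEA (hAS.trans inf_le_left)
      ((cv_of_mem hn.2).le.trans (hAS.trans inf_le_left))).mono hEA.le⟩
  rcases reduce (M := M) hE
    (fun c hc => ⟨hCN hc, c, hc, 1, 1, one_mem _, by group, .one hE.le⟩) hA' with h | hcr
  · exact h
  set S₀ := (P : Subgroup G) ⊓ N with hS₀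
  have hlt : E < S₀ := hE.lt hEP
  have hS₀M : S₀ ≤ M := fun z hz => hA' S₀ hlt le_rfl ⟨hz.2, le_normalizer hz⟩
  by_cases hdisc : Disc p E
  · obtain ⟨X, hX⟩ := exists_xmin hdisc
    have hres : resOf p X ≤ M := fun x hx => by
      have hxN : x ∈ N := hX.2.1 (map_subtype_le _ hx)
      exact ⟨hxN, 1, one_mem _, x, 1, one_mem _, by group,
        .single hE.le hxN ⟨hcr, hdisc, X, hX, hx⟩ Set.Subset.rfl⟩
    have hXn : (X.subgroupOf N).Normal := (normal_subgroupOf_iff_le_normalizer hX.2.1).mpr hX.2.2.1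
    obtain ⟨S, hS⟩ := hE.syl
    have hsylX : IsSylIn p (S₀ ⊓ X) X := by
      have := (isSylIn_inf_normal S (X.subgroupOf N)).map N.subtype_injective
      rwa [Subgroup.map_inf _ _ _ N.subtype_injective, hS, map_subgroupOf_eq_of_le hX.2.1] at this
    have hltX : E < S₀ ⊓ X := by
      refine lt_of_le_of_ne (le_inf hlt.le hX.1) fun e => ?_
      exact hsylX.not_dvd (e ▸ hX.2.2.2.1)
    have hSXM : S₀ ⊓ X ≤ M := inf_le_left.trans hS₀M
    have hXM : X ≤ M := by
      obtain ⟨T, hT⟩ := hsylX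
      have := congrArg (Subgroup.map X.subtype)
        (Transfer.NormalPComplement.pResidual_sup_sylow T)
      rw [Subgroup.map_sup, hT, ← MonoidHom.range_eq_map, range_subtype] at this
      rw [← this]
      exact sup_le hres hSXM
    intro n hn
    have h2 : IsSylIn p (cv n (S₀ ⊓ X)) X := by
      have := hsylX.conj n⁻¹
      rwa [conj_map_of_mem (inv_mem (hX.2.2.1 hn))] at this
    obtain ⟨k, hk, he⟩ := h2.exists_conj hsylX
    have hkN : k⁻¹ ∈ N := N.inv_mem (hX.2.1 hk)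
    have h3 : n * k⁻¹ ∈ normalizer ((S₀ ⊓ X : Subgroup G) : Set G) := by
      rw [← cv_eq_self_iff, ← cv_cv, cv.eq_1 k⁻¹, inv_inv]; exact he
    have := M.mul_mem (hA' _ hltX inf_le_left ⟨N.mul_mem hn hkN, h3⟩) (hXM hk)
    rwa [inv_mul_cancel_right] at this
  · by_contra hne
    refine hdisc ⟨M, hlt.le.trans hS₀M, fun n hn => hn.1, fun e => hne e.ge, ?_, ?_⟩
    · obtain ⟨k, hk⟩ := IsPGroup.iff_card.mp (P.2.to_le (inf_le_left : S₀ ≤ _))
      obtain ⟨i, -, hi⟩ := (Nat.dvd_prime_pow hp.out).mp (hk ▸ relIndex_dvd_card E S₀)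
      refine dvd_trans ?_ (Dvd.intro _ (relIndex_mul_relIndex E S₀ M hlt.le hS₀M))
      rcases Nat.eq_zero_or_pos i with rfl | hi0
      · exact absurd (relIndex_eq_one.mp (by rw [hi, pow_zero])) hlt.not_ge
      · exact hi ▸ dvd_pow_self p hi0.ne'
    intro g hgN hgM hpd
    have hEI : E ≤ M ⊓ cv g M := le_inf (hlt.le.trans hS₀M)
      ((cv_of_mem hgN).ge.trans (cv_mono g (hlt.le.trans hS₀M)))
    obtain ⟨T, hT, hET⟩ := exists_isSylIn_ge (p := p) (P.2.to_le hE.le) hEI
    have hET' : E < T := lt_of_le_of_ne hET fun e => hT.not_dvd (e ▸ hpd)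
    have hS₀syl : IsSylIn p S₀ M := hE.syl.mono hS₀M (fun n hn => hn.1)
    obtain ⟨T₁, hT₁, hTT₁⟩ := exists_isSylIn_ge (p := p) hT.isPGroup (hT.le.trans inf_le_left)
    obtain ⟨T₂, hT₂, hTT₂⟩ := exists_isSylIn_ge (p := p)
      (hT.isPGroup.map (MulAut.conj g).toMonoidHom) (P := T.map (MulAut.conj g).toMonoidHom) (H := M) (by
        rintro _ ⟨t, ht, rfl⟩
        exact mem_cv.mp (hT.le ht).2)
    obtain ⟨m₁, hm₁, he₁⟩ := hT₁.exists_conj hS₀syl
    obtain ⟨m₂, hm₂, he₂⟩ := hT₂.exists_conj hS₀syl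
    set A₁ := T.map (MulAut.conj m₁).toMonoidHom with hA₁
    have hA₁S : A₁ ≤ S₀ := he₁ ▸ map_mono hTT₁
    have hA₂S : cv (m₁ * g⁻¹ * m₂⁻¹) A₁ ≤ S₀ := by
      rw [hA₁, cv, conj_map_map, show (m₁ * g⁻¹ * m₂⁻¹)⁻¹ * m₁ = m₂ * g by group, ← conj_map_map]
      exact he₂ ▸ map_mono hTT₂
    have hEA₁ : E < A₁ := by
      have h1 : E.map (MulAut.conj m₁).toMonoidHom = E := conj_map_of_mem hm₁.1
      rw [hA₁, ← h1]
      exact lt_of_le_of_ne (map_mono hET'.le) fun e => hET'.ne (map_injective (MulAut.conj m₁).injective e)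
    have hk : m₁ * g⁻¹ * m₂⁻¹ ∈ M :=
      ⟨mul_mem (mul_mem hm₁.1 (inv_mem hgN)) (inv_mem hm₂.1),
        (ih A₁ _ hEA₁ (hA₁S.trans inf_le_left) (hA₂S.trans inf_le_left)).mono hEA₁.le⟩
    have := M.inv_mem (M.mul_mem (M.mul_mem (M.inv_mem hm₁) hk) hm₂)
    rw [show (m₁⁻¹ * (m₁ * g⁻¹ * m₂⁻¹) * m₂)⁻¹ = g by group] at this
    exact hgM this

end Cfsg.Agent.Techniques.Alperin.Strong
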