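import Cfsg.Agent.Techniques.Alperin.Basic

/-!
Chains of conjugations inside normalizers, and their conversion into indexed sequences.
-/

set_option autoImplicit false

namespace Cfsg.Agent.Techniques.Alperin.Chain

open Subgroup
open Cfsg.Agent.Techniques.Alperin.Basic

variable {G : Type*} [Group G]

/-- The set `x⁻¹ A x`. -/
abbrev cs (x : G) (A : Set G) : Set G := (fun a => x⁻¹ * a * x) '' A

theorem cs_one (A : Set G) : cs 1 A = A := by simp [cs]

theorem cs_cs (x y : G) (A : Set G) : cs y (cs x A) = cs (x * y) A := by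
  simp only [cs, Set.image_image, mul_inv_rev, mul_assoc]

theorem cs_mono (x : G) {A B : Set G} (h : A ⊆ B) : cs x A ⊆ cs x B := Set.image_mono h

theorem cs_of_mem_centralizer {c : G} {A : Set G} (h : c ∈ centralizer A) : cs c A = A := by
  have e : ∀ a ∈ A, c⁻¹ * a * c = a := fun a ha => by
    rw [mul_assoc, mem_centralizer_iff.1 h a ha, inv_mul_cancel_left]
  show (fun a => c⁻¹ * a * c) '' A = A
  rw [Set.image_congr e, Set.image_id']

theorem coe_cv (g : G) (D : Subgroup G) : ((cv g D : Subgroup G) : Set G) = cs g D := by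
  ext x
  rw [SetLike.mem_coe, mem_cv]
  constructor
  · exact fun h => ⟨_, h, by group⟩
  · rintro ⟨a, ha, rfl⟩
    simpa [mul_assoc] using ha

theorem cs_subset_of_mem {x : G} {A : Set G} {D : Subgroup G} (hx : x ∈ normalizer (D : Set G))
    (hA : A ⊆ D) : cs x A ⊆ D :=
  (cs_mono x hA).trans (by rw [← coe_cv, cv_of_mem hx])

/-- `Chain Ok A g`: `g` is a product of steps `x` in normalizers of subgroups `D` with `Ok D x`,
carrying `A` along. -/
inductive Chain (P : Subgroup G) (Ok : Subgroup G → G → Prop) : Set G → G → Prop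
  | one {A : Set G} : A ⊆ (P : Set G) → Chain P Ok A 1
  | step {A : Set G} {D : Subgroup G} {x g : G} : D ≤ P → x ∈ normalizer (D : Set G) → Ok D x →
      A ⊆ (D : Set G) → Chain P Ok (cs x A) g → Chain P Ok A (x * g)

variable {P : Subgroup G} {Ok : Subgroup G → G → Prop} {A B : Set G} {g h : G}

theorem Chain.mem_subset (hg : Chain P Ok A g) : A ⊆ (P : Set G) ∧ cs g A ⊆ (P : Set G) := by
  induction hg with
  | one h => exact ⟨h, by rwa [cs_one]⟩
  | step hD hx _ hA _ ih => exact ⟨hA.trans hD, by rw [← cs_cs]; exact ih.2⟩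

theorem Chain.single {D : Subgroup G} {x : G} (hD : D ≤ P) (hx : x ∈ normalizer (D : Set G))
    (hOk : Ok D x) (hA : A ⊆ (D : Set G)) : Chain P Ok A x := by
  simpa using Chain.step hD hx hOk hA (Chain.one ((cs_subset_of_mem hx hA).trans hD))

theorem Chain.mono (hg : Chain P Ok A g) (hB : B ⊆ A) : Chain P Ok B g := by
  induction hg generalizing B with
  | one h => exact .one (hB.trans h)
  | step hD hx hOk hA _ ih => exact .step hD hx hOk (hB.trans hA) (ih (cs_mono _ hB))

theorem Chain.trans (hg : Chain P Ok A g) (hh : Chain P Ok (cs g A) h) : Chain P Ok A (g * h) := by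
  induction hg with
  | one _ => rw [cs_one] at hh; rwa [one_mul]
  | @step A D x g hD hx hOk hA _ ih =>
    rw [mul_assoc]
    exact .step hD hx hOk hA (ih (by rwa [cs_cs]))

theorem Chain.symm (hOk : ∀ (D : Subgroup G) x, x ∈ normalizer (D : Set G) → Ok D x → Ok D x⁻¹)
    (hg : Chain P Ok A g) : Chain P Ok (cs g A) g⁻¹ := by
  induction hg with
  | one h => rw [cs_one, inv_one]; exact .one h
  | @step A D x g hD hx hO hA _ ih =>
    rw [mul_inv_rev, ← cs_cs]
    refine ih.trans ?_
    rw [cs_cs g g⁻¹, mul_inv_cancel, cs_one]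
    exact .single hD (inv_mem hx) (hOk D x hx hO) (cs_subset_of_mem hx hA)

/-- Conjugating a chain by an element normalizing `P`. -/
theorem Chain.conj {y : G} (hy : y ∈ normalizer (P : Set G))
    (hOk : ∀ (D : Subgroup G) x, D ≤ P → x ∈ normalizer (D : Set G) → Ok D x → Ok (cv y D) (y⁻¹ * x * y))
    (hg : Chain P Ok A g) : Chain P Ok (cs y A) (y⁻¹ * g * y) := by
  induction hg with
  | one h => rw [mul_one, inv_mul_cancel]; exact .one (cs_subset_of_mem hy h)
  | @step A D x g hD hx hO hA _ ih =>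
    rw [show y⁻¹ * (x * g) * y = y⁻¹ * x * y * (y⁻¹ * g * y) by group]
    refine .step ((cv_mono y hD).trans (cv_of_mem hy).le) ?_ (hOk D x hD hx hO) ?_ ?_
    · rw [← cv_normalizer]; exact conj_mem_cv hx
    · rw [coe_cv]; exact cs_mono y hA
    · rw [cs_cs, show y * (y⁻¹ * x * y) = x * y by group, ← cs_cs]
      exact ih

theorem Chain.exists_seq (hg : Chain P Ok A g) : ∃ (n : ℕ) (D : Fin n → Subgroup G) (x : Fin n → G),
    (List.ofFn x).prod = g ∧ ∀ i : Fin n, D i ≤ P ∧ x i ∈ normalizer (D i : Set G) ∧ Ok (D i) (x i) ∧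
      cs (((List.ofFn x).take i.val).prod) A ⊆ (D i : Set G) := by
  induction hg with
  | one h => exact ⟨0, Fin.elim0, Fin.elim0, by simp, fun i => i.elim0⟩
  | @step A D x g hD hx hOk hA _ ih =>
    obtain ⟨n, D', x', hprod, hall⟩ := ih
    refine ⟨n + 1, Fin.cons D D', Fin.cons x x', by simp [List.ofFn_succ, hprod], fun i => ?_⟩
    refine Fin.cases ?_ (fun j => ?_) i
    · refine ⟨by simpa using hD, by simpa using hx, by simpa using hOk, ?_⟩
      simpa [cs_one] using hA
    · obtain ⟨h1, h2, h3, h4⟩ := hall j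
      refine ⟨by simpa using h1, by simpa using h2, by simpa using h3, ?_⟩
      simp only [List.ofFn_succ, Fin.cons_zero, Fin.cons_succ, Fin.val_succ, List.take_succ_cons,
        List.prod_cons]
      rwa [← cs_cs]

end Cfsg.Agent.Techniques.Alperin.Chain
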